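import Mathlib
import Groth.Prelude.Def_QuadSing

/-!
# Formal Morse lemma: fixed points for substitutions in multivariate power series
-/

set_option autoImplicit false
noncomputable section

namespace Morse19

open MvPowerSeries

universe u

variable {A : Type u} [CommRing A] {n : ℕ}

/-- All coefficients in total degree `< k` vanish. -/
def O (k : ℕ) (f : MvPowerSeries (Fin n) A) : Prop := (k : ℕ∞) ≤ f.order

theorem O_iff {k : ℕ} {f : MvPowerSeries (Fin n) A} :
    O k f ↔ ∀ e : Fin n →₀ ℕ, e.degree < k → coeff e f = 0 :=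
  ⟨fun h e he => coeff_of_lt_order (lt_of_lt_of_le (by exact_mod_cast he) h),
    fun h => nat_le_order h⟩

theorem O.mono {k l : ℕ} {f : MvPowerSeries (Fin n) A} (h : O k f) (hl : l ≤ k) : O l f :=
  le_trans (by exact_mod_cast hl) h

theorem O_zero (k : ℕ) : O k (0 : MvPowerSeries (Fin n) A) := by simp [O]

theorem O_zero_left (f : MvPowerSeries (Fin n) A) : O 0 f := by simp [O]

theorem O.add {k : ℕ} {f g : MvPowerSeries (Fin n) A} (hf : O k f) (hg : O k g) : O k (f + g) :=
  le_trans (le_min hf hg) min_order_le_add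

theorem O.neg {k : ℕ} {f : MvPowerSeries (Fin n) A} (hf : O k f) : O k (-f) := by
  simpa [O, order_neg] using hf

theorem O.sub {k : ℕ} {f g : MvPowerSeries (Fin n) A} (hf : O k f) (hg : O k g) : O k (f - g) := by
  rw [sub_eq_add_neg]; exact hf.add hg.neg

theorem O.mul {k l : ℕ} {f g : MvPowerSeries (Fin n) A} (hf : O k f) (hg : O l g) :
    O (k + l) (f * g) := by
  refine le_trans ?_ le_order_mul
  push_cast
  exact add_le_add hf hg

theorem O.mul_left {k : ℕ} (g : MvPowerSeries (Fin n) A) {f : MvPowerSeries (Fin n) A}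
    (hf : O k f) : O k (g * f) := by
  simpa using (O_zero_left g).mul hf

theorem O.sum {k : ℕ} {ι : Type*} (s : Finset ι) (f : ι → MvPowerSeries (Fin n) A)
    (hf : ∀ i ∈ s, O k (f i)) : O k (∑ i ∈ s, f i) := by
  rw [O_iff]; intro e he
  rw [map_sum]
  exact Finset.sum_eq_zero fun i hi => O_iff.1 (hf i hi) e he

theorem O.constantCoeff {k : ℕ} {f : MvPowerSeries (Fin n) A} (hf : O k f) (hk : 1 ≤ k) :
    MvPowerSeries.constantCoeff f = 0 := by
  rw [← coeff_zero_eq_constantCoeff_apply]
  exact O_iff.1 hf 0 (by simp; omega)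

theorem eq_zero_of_forall_O {f : MvPowerSeries (Fin n) A} (hf : ∀ k, O k f) : f = 0 := by
  ext e
  exact (O_iff.1 (hf (e.degree + 1)) e (Nat.lt_succ_self _)).trans (by simp)

theorem O_X (i : Fin n) : O 1 (X i : MvPowerSeries (Fin n) A) := by
  rw [O_iff]; intro e he
  have : e = 0 := by
    simpa [Finsupp.degree_eq_zero_iff] using Nat.lt_one_iff.1 he
  subst this
  simp [coeff_zero_eq_constantCoeff_apply]

theorem O_multiset_prod (a : Fin n → MvPowerSeries (Fin n) A) (ha : ∀ i, O 1 (a i))
    (s : Multiset (Fin n)) : O (Multiset.card s) (s.map a).prod := by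
  induction s using Multiset.induction_on with
  | empty => simp [O_zero_left]
  | cons i s ih =>
    rw [Multiset.map_cons, Multiset.prod_cons, Multiset.card_cons, Nat.add_comm]
    exact (ha i).mul ih

theorem O_multiset_prod_sub {k : ℕ} (a b : Fin n → MvPowerSeries (Fin n) A) (ha : ∀ i, O 1 (a i))
    (hb : ∀ i, O 1 (b i)) (hab : ∀ i, O k (a i - b i)) (s : Multiset (Fin n)) :
    O (k + Multiset.card s - 1) ((s.map a).prod - (s.map b).prod) := by
  induction s using Multiset.induction_on with
  | empty => simp [O_zero]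
  | cons i s ih =>
    rw [Multiset.map_cons, Multiset.prod_cons, Multiset.map_cons, Multiset.prod_cons,
      Multiset.card_cons]
    have e : a i * (s.map a).prod - b i * (s.map b).prod
        = (a i - b i) * (s.map a).prod + b i * ((s.map a).prod - (s.map b).prod) := by ring
    rw [e]
    refine O.add (((hab i).mul (O_multiset_prod a ha s)).mono (by omega)) ?_
    rcases Multiset.empty_or_exists_mem s with rfl | ⟨j, hj⟩
    · simpa using O_zero _
    · exact ((hb i).mul ih).mono (by omega)

theorem finsupp_prod_eq_multiset {M : Type*} [CommMonoid M] (a : Fin n → M) (d : Fin n →₀ ℕ) :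
    (d.prod fun i m => a i ^ m) = ((Finsupp.toMultiset d).map a).prod := by
  rw [Finsupp.toMultiset_map, Finsupp.prod_toMultiset, Finsupp.prod_mapDomain_index (by simp)
    (by simp [pow_add])]

theorem hasSubst_of_O {a : Fin n → MvPowerSeries (Fin n) A} (ha : ∀ i, O 1 (a i)) : HasSubst a :=
  hasSubst_of_constantCoeff_zero fun i => (ha i).constantCoeff le_rfl

theorem O_subst_sub {k d : ℕ} (a b : Fin n → MvPowerSeries (Fin n) A) (ha : ∀ i, O 1 (a i))
    (hb : ∀ i, O 1 (b i)) (hab : ∀ i, O k (a i - b i)) (f : MvPowerSeries (Fin n) A)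
    (hf : O d f) : O (k + d - 1) (subst a f - subst b f) := by
  rw [O_iff]; intro e he
  rw [map_sub, coeff_subst (hasSubst_of_O ha), coeff_subst (hasSubst_of_O hb), sub_eq_zero]
  refine finsum_congr fun d' => ?_
  by_cases hd : d'.degree < d
  · rw [O_iff.1 hf d' hd]; simp
  · congr 1
    rw [finsupp_prod_eq_multiset, finsupp_prod_eq_multiset, ← sub_eq_zero, ← map_sub]
    refine O_iff.1 (O_multiset_prod_sub a b ha hb hab _) e ?_
    have : Multiset.card (Finsupp.toMultiset d') = d'.degree := by
      rw [Finsupp.card_toMultiset]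
      rfl
    omega

theorem O_subst {d : ℕ} (a : Fin n → MvPowerSeries (Fin n) A) (ha : ∀ i, O 1 (a i))
    (f : MvPowerSeries (Fin n) A) (hf : O d f) : O d (subst a f) := by
  rw [O_iff]; intro e he
  rw [coeff_subst (hasSubst_of_O ha)]
  refine finsum_eq_zero_of_forall_eq_zero fun d' => ?_
  by_cases hd : d'.degree < d
  · rw [O_iff.1 hf d' hd]; simp
  · have h0 : coeff e (d'.prod fun i m => a i ^ m) = 0 := by
      rw [finsupp_prod_eq_multiset]
      refine O_iff.1 (O_multiset_prod a ha _) e ?_
      have : Multiset.card (Finsupp.toMultiset d') = d'.degree := by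
        rw [Finsupp.card_toMultiset]
        rfl
      omega
    rw [h0, smul_zero]

/-- An order-contraction on tuples of order `≥ m` has a fixed point of order `≥ m`. -/
theorem exists_fixed (m : ℕ) (T : (Fin n → MvPowerSeries (Fin n) A) → Fin n → MvPowerSeries (Fin n) A)
    (hT : ∀ h, (∀ i, O m (h i)) → ∀ i, O m (T h i))
    (hc : ∀ (k : ℕ) h h', (∀ i, O m (h i)) → (∀ i, O m (h' i)) → (∀ i, O k (h i - h' i)) →
      ∀ i, O (k + 1) (T h i - T h' i)) :
    ∃ h, (∀ i, O m (h i)) ∧ T h = h := by
  let s : ℕ → Fin n → MvPowerSeries (Fin n) A := fun t => T^[t] 0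
  have s_succ : ∀ t, s (t + 1) = T (s t) := fun t => Function.iterate_succ_apply' T t 0
  have sm : ∀ t i, O m (s t i) := by
    intro t
    induction t with
    | zero => intro i; exact O_zero m
    | succ t ih => rw [s_succ]; exact hT _ ih
  have step : ∀ t i, O t (s (t + 1) i - s t i) := by
    intro t
    induction t with
    | zero => intro i; exact O_zero_left _
    | succ t ih =>
      intro i
      rw [s_succ (t + 1)]
      nth_rw 2 [s_succ t]
      exact hc t _ _ (sm _) (sm _) ih i
  have cauchy : ∀ t r i, O t (s (t + r) i - s t i) := by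
    intro t r
    induction r with
    | zero => intro i; simpa using O_zero _
    | succ r ih =>
      intro i
      have e : s (t + (r + 1)) i - s t i
          = (s (t + r + 1) i - s (t + r) i) + (s (t + r) i - s t i) := by
        rw [← Nat.add_assoc]; ring
      rw [e]
      exact ((step (t + r) i).mono (Nat.le_add_right t r)).add (ih i)
  let L : Fin n → MvPowerSeries (Fin n) A := fun i e => coeff e (s (e.degree + 1) i)
  have hL : ∀ t i, O t (L i - s t i) := by
    intro t i
    rw [O_iff]; intro e he
    obtain ⟨r, rfl⟩ := Nat.exists_eq_add_of_le (Nat.succ_le_of_lt he)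
    have h2 := O_iff.1 (cauchy (e.degree + 1) r i) e (Nat.lt_succ_self _)
    rw [map_sub, sub_eq_zero] at h2
    rw [map_sub, sub_eq_zero]
    exact h2.symm
  have Lm : ∀ i, O m (L i) := by
    intro i
    rw [O_iff]; intro e he
    exact O_iff.1 (sm _ i) e he
  refine ⟨L, Lm, funext fun i => ?_⟩
  rw [← sub_eq_zero]
  refine eq_zero_of_forall_O fun t => ?_
  have h1 := (hc t L (s t) Lm (sm t) (hL t) i).mono (Nat.le_add_right t 1)
  rw [← s_succ] at h1
  have h2 := ((hL (t + 1) i).mono (Nat.le_add_right t 1))
  have e : T L i - L i = (T L i - s (t + 1) i) - (L i - s (t + 1) i) := by ring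
  rw [e]
  exact h1.sub h2

theorem O_X_add {h : Fin n → MvPowerSeries (Fin n) A} {m : ℕ} (hm : 1 ≤ m) (hh : ∀ i, O m (h i))
    (i : Fin n) : O 1 (X i + h i) :=
  (O_X i).add ((hh i).mono hm)

/-- `x ↦ x + h` with `h` of order `≥ 2` has a left inverse of the same shape. -/
theorem exists_leftInverse (h : Fin n → MvPowerSeries (Fin n) A) (hh : ∀ i, O 2 (h i)) :
    ∃ k : Fin n → MvPowerSeries (Fin n) A, (∀ i, O 2 (k i)) ∧ ∀ f : MvPowerSeries (Fin n) A,
      subst (fun i => X i + k i) (subst (fun i => X i + h i) f) = f := by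
  obtain ⟨k, hk, hfix⟩ := exists_fixed 2 (fun k i => - subst (fun j => X j + k j) (h i))
    (fun k hk i => (O_subst _ (O_X_add one_le_two hk) _ (hh i)).neg)
    (fun t k k' hk hk' hd i => by
      have := O_subst_sub (fun j => X j + k j) (fun j => X j + k' j) (O_X_add one_le_two hk)
        (O_X_add one_le_two hk') (k := t) (fun j => by simpa using hd j) (h i) (hh i)
      simp only [neg_sub_neg]
      rw [← neg_sub]
      exact (this.mono (by omega)).neg)
  refine ⟨k, hk, fun f => ?_⟩
  have hk1 := hasSubst_of_O (O_X_add one_le_two hk)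
  have hh1 := hasSubst_of_O (O_X_add one_le_two hh)
  rw [subst_comp_subst_apply hh1 hk1]
  have e : (fun i => subst (fun j => X j + k j) (X i + h i)) = (X : Fin n → MvPowerSeries (Fin n) A) := by
    funext i
    rw [subst_add hk1, subst_X hk1]
    have : - subst (fun j => X j + k j) (h i) = k i := congrFun hfix i
    linear_combination (-1 : MvPowerSeries (Fin n) A) * this
  rw [e, subst_self]
  rfl

/-- The automorphism of `A[[x]]` given by `x ↦ x + h`, `h` of order `≥ 2`. -/
theorem subst_bijective (h : Fin n → MvPowerSeries (Fin n) A) (hh : ∀ i, O 2 (h i)) :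
    Function.Bijective (subst (fun i => X i + h i) :
      MvPowerSeries (Fin n) A → MvPowerSeries (Fin n) A) := by
  obtain ⟨k, hk, hkh⟩ := exists_leftInverse h hh
  obtain ⟨l, hl, hlk⟩ := exists_leftInverse k hk
  refine ⟨fun f g hfg => ?_, fun f => ⟨subst (fun i => X i + k i) f, ?_⟩⟩
  · rw [← hkh f, ← hkh g, hfg]
  · have hl_eq : ∀ g : MvPowerSeries (Fin n) A, subst (fun i => X i + l i) g = subst (fun i => X i + h i) g := by
      intro g
      have := hlk (subst (fun i => X i + h i) g)
      rw [hkh] at this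
      exact this
    rw [← hl_eq]
    exact hlk f

/-! ## First-variable division -/

/-- `f = const + ∑ X i * D i f`, where `D i` collects monomials whose first variable is `i`. -/
def D (i : Fin n) (f : MvPowerSeries (Fin n) A) : MvPowerSeries (Fin n) A :=
  fun e => if ∀ j < i, e j = 0 then coeff (e + Finsupp.single i 1) f else 0

theorem coeff_D (i : Fin n) (f : MvPowerSeries (Fin n) A) (e : Fin n →₀ ℕ) :
    coeff e (D i f) = if ∀ j < i, e j = 0 then coeff (e + Finsupp.single i 1) f else 0 := rfl

theorem O_D {r : ℕ} (i : Fin n) {f : MvPowerSeries (Fin n) A} (hf : O (r + 1) f) : O r (D i f) := by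
  rw [O_iff]; intro e he
  rw [coeff_D]
  split
  · exact O_iff.1 hf _ (by rw [map_add, Finsupp.degree_single]; omega)
  · rfl

theorem D_sub (i : Fin n) (f g : MvPowerSeries (Fin n) A) : D i (f - g) = D i f - D i g := by
  ext e
  simp only [coeff_D, map_sub]
  split <;> simp

theorem sum_X_mul_D (f : MvPowerSeries (Fin n) A) (hf : MvPowerSeries.constantCoeff f = 0) :
    ∑ i, X i * D i f = f := by
  classical
  ext e
  rw [map_sum]
  by_cases he : e = 0
  · subst he
    rw [coeff_zero_eq_constantCoeff_apply, hf]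
    refine Finset.sum_eq_zero fun i _ => ?_
    simp [coeff_zero_eq_constantCoeff_apply]
  have hne : e.support.Nonempty := Finsupp.support_nonempty_iff.2 he
  let i0 := e.support.min' hne
  have hi0 : e i0 ≠ 0 := Finsupp.mem_support_iff.1 (Finset.min'_mem _ hne)
  have hlt : ∀ j < i0, e j = 0 := fun j hj => by
    by_contra hc
    exact absurd (Finset.min'_le _ j (Finsupp.mem_support_iff.2 hc)) (not_le.2 hj)
  have key : ∀ i, coeff e (X i * D i f) =
      if 1 ≤ e i then coeff (e - Finsupp.single i 1) (D i f) else 0 := by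
    intro i
    rw [X_def, coeff_monomial_mul]
    simp only [Finsupp.single_le_iff, one_mul]
  rw [Finset.sum_eq_single i0]
  · have hs : Finsupp.single i0 1 ≤ e := Finsupp.single_le_iff.2 (Nat.one_le_iff_ne_zero.2 hi0)
    rw [key, if_pos (Nat.one_le_iff_ne_zero.2 hi0), coeff_D, if_pos, tsub_add_cancel_of_le hs]
    intro j hj
    simp [Finsupp.tsub_apply, hlt j hj]
  · intro i _ hi
    rw [key]
    split
    · next h1 =>
      rw [coeff_D, if_neg]
      intro hall
      rcases lt_or_gt_of_ne hi with hl | hg
      · have := hlt i hl; omega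
      · have := hall i0 hg
        rw [Finsupp.tsub_apply, Finsupp.single_eq_of_ne (Ne.symm hi), Nat.sub_zero] at this
        exact hi0 this
    · rfl
  · exact fun h => absurd (Finset.mem_univ _) h

/-! ## Quadratic forms -/

variable {S : Type u} [CommRing S]

theorem quadEval_add (q : Fin n → Fin n → S) (x h : Fin n → S) :
    VanCyc.quadEval q (x + h)
      = VanCyc.quadEval q x + ∑ i, x i * (VanCyc.polarMatrix q).mulVec h i + VanCyc.quadEval q h := by
  have hB : ∀ i j, VanCyc.polarMatrix q i j
      = (if i ≤ j then q i j else 0) + (if j ≤ i then q j i else 0) := by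
    intro i j
    unfold VanCyc.polarMatrix
    rcases lt_trichotomy i j with hij | rfl | hij
    · simp [hij.ne, hij, hij.le, not_le.2 hij]
    · simp [two_mul]
    · simp [hij.ne', hij.le, not_le.2 hij, not_lt.2 hij.le]
  have h1 : ∑ i, x i * (VanCyc.polarMatrix q).mulVec h i
      = ∑ i, ∑ j, ((if i ≤ j then q i j else 0) * (x i * h j + h i * x j)) := by
    have e : ∑ i, x i * (VanCyc.polarMatrix q).mulVec h i
        = ∑ i, ∑ j, (if i ≤ j then q i j else 0) * (x i * h j)
          + ∑ i, ∑ j, (if j ≤ i then q j i else 0) * (x i * h j) := by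
      rw [← Finset.sum_add_distrib]
      refine Finset.sum_congr rfl fun i _ => ?_
      rw [← Finset.sum_add_distrib, Matrix.mulVec, dotProduct, Finset.mul_sum]
      refine Finset.sum_congr rfl fun j _ => ?_
      rw [hB]; ring
    rw [e]
    nth_rw 2 [Finset.sum_comm]
    rw [← Finset.sum_add_distrib]
    refine Finset.sum_congr rfl fun i _ => ?_
    rw [← Finset.sum_add_distrib]
    refine Finset.sum_congr rfl fun j _ => ?_
    ring
  rw [h1]
  unfold VanCyc.quadEval
  rw [← Finset.sum_add_distrib, ← Finset.sum_add_distrib]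
  refine Finset.sum_congr rfl fun i _ => ?_
  rw [← Finset.sum_add_distrib, ← Finset.sum_add_distrib]
  refine Finset.sum_congr rfl fun j _ => ?_
  simp only [Pi.add_apply]
  split <;> ring

theorem aeval_quadPoly {T : Type u} [CommRing T] [Algebra S T] (q : Fin n → Fin n → S) (v : Fin n → T) :
    MvPolynomial.aeval v (VanCyc.quadPoly q)
      = VanCyc.quadEval (fun i j => algebraMap S T (q i j)) v := by
  simp only [VanCyc.quadPoly, VanCyc.quadEval, map_sum, apply_ite (MvPolynomial.aeval v), map_zero,
    map_mul, MvPolynomial.aeval_C, MvPolynomial.aeval_X]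

theorem O_quadEval_sub {k m : ℕ} (q : Fin n → Fin n → MvPowerSeries (Fin n) A)
    {a b : Fin n → MvPowerSeries (Fin n) A} (ha : ∀ i, O m (a i)) (hb : ∀ i, O m (b i))
    (hab : ∀ i, O k (a i - b i)) : O (k + m) (VanCyc.quadEval q a - VanCyc.quadEval q b) := by
  simp only [VanCyc.quadEval, ← Finset.sum_sub_distrib]
  refine O.sum _ _ fun i _ => O.sum _ _ fun j _ => ?_
  split
  · have e : q i j * a i * a j - q i j * b i * b j
        = q i j * ((a i - b i) * a j + b i * (a j - b j)) := by ring
    rw [e]
    exact O.mul_left _ (((hab i).mul (ha j)).add (((hb i).mul (hab j)).mono (by omega)))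
  · simpa using O_zero _

/-- The formal Morse lemma with a substitution. -/
theorem exists_morse (m : ℕ) (hm : 2 ≤ m) (q : Fin n → Fin n → A) (hq : VanCyc.QuadNondeg q) (a : A)
    (F : MvPowerSeries (Fin n) A)
    (hF : O (m + 1) (F - ((VanCyc.quadPoly q + MvPolynomial.C a : MvPolynomial (Fin n) A) :
        MvPowerSeries (Fin n) A))) :
    ∃ h : Fin n → MvPowerSeries (Fin n) A, (∀ i, O m (h i)) ∧
      subst (fun i => X i + h i) F = ((VanCyc.quadPoly q + MvPolynomial.C a : MvPolynomial (Fin n) A) :
        MvPowerSeries (Fin n) A) := by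
  set P : MvPolynomial (Fin n) A := VanCyc.quadPoly q + MvPolynomial.C a with hP
  set G := F - (P : MvPowerSeries (Fin n) A) with hG
  let qc : Fin n → Fin n → MvPowerSeries (Fin n) A :=
    fun i j => algebraMap A (MvPowerSeries (Fin n) A) (q i j)
  let R : (Fin n → MvPowerSeries (Fin n) A) → MvPowerSeries (Fin n) A :=
    fun h => -(VanCyc.quadEval qc h + subst (fun i => X i + h i) G)
  let Bi : Matrix (Fin n) (Fin n) A := (VanCyc.polarMatrix q)⁻¹
  let T : (Fin n → MvPowerSeries (Fin n) A) → Fin n → MvPowerSeries (Fin n) A :=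
    fun h i => ∑ j, algebraMap A (MvPowerSeries (Fin n) A) (Bi i j) * D j (R h)
  have hR : ∀ h, (∀ i, O m (h i)) → O (m + 1) (R h) := by
    intro h hh
    refine (O.add ?_ (O_subst _ (O_X_add (by omega) hh) _ hF)).neg
    refine (O.sum _ _ fun i _ => O.sum _ _ fun j _ => ?_)
    split
    · rw [mul_assoc]
      exact O.mul_left _ (((hh i).mul (hh j)).mono (by omega))
    · exact O_zero _
  obtain ⟨h, hh, hfix⟩ := exists_fixed m T
    (fun h hh i => O.sum _ _ fun j _ => O.mul_left _ (O_D j (hR h hh)))
    (fun k h h' hh hh' hd i => by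
      simp only [T, ← Finset.sum_sub_distrib, ← mul_sub, ← D_sub]
      refine O.sum _ _ fun j _ => O.mul_left _ (O_D j ?_)
      have e : R h - R h' = -((VanCyc.quadEval qc h - VanCyc.quadEval qc h')
          + (subst (fun i => X i + h i) G - subst (fun i => X i + h' i) G)) := by
        simp only [R]; ring
      rw [e]
      refine (O.add ((O_quadEval_sub qc hh hh' hd).mono (by omega)) ?_).neg
      refine (O_subst_sub (d := m + 1) (fun i => X i + h i) (fun i => X i + h' i) (O_X_add (by omega) hh)
        (O_X_add (by omega) hh') (k := k) (fun i => by simpa using hd i) G hF).mono (by omega))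
  refine ⟨h, hh, ?_⟩
  have hs := hasSubst_of_O (O_X_add (by omega : 1 ≤ m) hh)
  have hFG : F = (P : MvPowerSeries (Fin n) A) + G := by rw [hG]; ring
  -- `B h = D (R h)`
  have hBh : ∀ i, (VanCyc.polarMatrix qc).mulVec h i = D i (R h) := by
    intro i
    have hmap : VanCyc.polarMatrix qc = (VanCyc.polarMatrix q).map (algebraMap A (MvPowerSeries (Fin n) A)) := by
      refine Matrix.ext fun i j => ?_
      simp only [VanCyc.polarMatrix, Matrix.map_apply, qc]
      split_ifs <;> simp [map_ofNat]
    have hT : h = (Bi.map (algebraMap A (MvPowerSeries (Fin n) A))).mulVec (fun j => D j (R h)) := by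
      refine hfix.symm.trans (funext fun i => ?_)
      simp only [T, Matrix.mulVec, dotProduct, Matrix.map_apply]
    have hmul : (VanCyc.polarMatrix q) * Bi = 1 := Matrix.mul_nonsing_inv _ hq
    rw [hmap]
    refine (congrFun (congrArg ((VanCyc.polarMatrix q).map
      (algebraMap A (MvPowerSeries (Fin n) A))).mulVec hT) i).trans ?_
    rw [Matrix.mulVec_mulVec, ← Matrix.map_mul, hmul, Matrix.map_one _ (map_zero _) (map_one _),
      Matrix.one_mulVec]
  have hlin : ∑ i, X i * (VanCyc.polarMatrix qc).mulVec h i = R h := by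
    simp only [hBh]
    exact sum_X_mul_D _ ((hR h hh).constantCoeff (by omega))
  have hQ : subst (fun i => X i + h i) (P : MvPowerSeries (Fin n) A)
      = (P : MvPowerSeries (Fin n) A) + R h + VanCyc.quadEval qc h := by
    have hPX : (P : MvPowerSeries (Fin n) A) = MvPolynomial.aeval (X : Fin n → MvPowerSeries (Fin n) A) P := by
      rw [← subst_coe, subst_self]; rfl
    rw [subst_coe]
    nth_rw 1 [hPX]
    rw [hP, map_add, map_add, aeval_quadPoly, aeval_quadPoly, MvPolynomial.aeval_C, MvPolynomial.aeval_C,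
      ← hlin]
    have := quadEval_add qc (X : Fin n → MvPowerSeries (Fin n) A) h
    simp only [qc] at this ⊢
    rw [show (fun i => X i + h i) = (X : Fin n → MvPowerSeries (Fin n) A) + h from rfl, this]
    ring
  rw [hFG, subst_add hs, hQ]
  simp only [R]
  ring

end Morse19
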