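import Mathlib
import Groth.Prelude.Def_QuadSing
import Groth.Agent.Lib.Morse19.Basic

/-!
# Formal Morse lemma over an adically complete base

`W I k` is the filtration of `A⟦x⟧` in which `I` has weight two and the variables weight one.
-/

set_option autoImplicit false
noncomputable section

namespace Morse19

open MvPowerSeries

universe u

variable {A : Type u} [CommRing A] {n : ℕ} (I : Ideal A)

/-- Weight filtration: `I` has weight `2`, the variables weight `1`. -/
def W (k : ℕ) : Ideal (MvPowerSeries (Fin n) A) where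
  carrier := {f | ∀ e : Fin n →₀ ℕ, coeff e f ∈ I ^ ((k + 1 - e.degree) / 2)}
  add_mem' := fun hf hg e => by rw [map_add]; exact Ideal.add_mem _ (hf e) (hg e)
  zero_mem' := fun e => by simp
  smul_mem' := fun g f hf e => by
    classical
    rw [smul_eq_mul, coeff_mul]
    refine Ideal.sum_mem _ fun p hp => Ideal.mul_mem_left _ _ (Ideal.pow_le_pow_right ?_ (hf p.2))
    have h : p.1.degree + p.2.degree = e.degree := by
      rw [← map_add, Finset.HasAntidiagonal.mem_antidiagonal.1 hp]
    omega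

variable {I}

theorem mem_W {k : ℕ} {f : MvPowerSeries (Fin n) A} :
    f ∈ W I k ↔ ∀ e : Fin n →₀ ℕ, coeff e f ∈ I ^ ((k + 1 - e.degree) / 2) := Iff.rfl

theorem W_mono {k l : ℕ} (h : l ≤ k) : (W I k : Ideal (MvPowerSeries (Fin n) A)) ≤ W I l :=
  fun _ hf e => Ideal.pow_le_pow_right (by omega) (hf e)

theorem mem_W_zero (f : MvPowerSeries (Fin n) A) : f ∈ W I 0 := by
  intro e
  rw [show (0 + 1 - e.degree) / 2 = 0 by omega, pow_zero, Ideal.one_eq_top]
  trivial

theorem W_mul {k l : ℕ} {f g : MvPowerSeries (Fin n) A} (hf : f ∈ W I k) (hg : g ∈ W I l) :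
    f * g ∈ W I (k + l) := by
  classical
  intro e
  rw [coeff_mul]
  refine Ideal.sum_mem _ fun p hp => Ideal.pow_le_pow_right (n := (k + 1 - p.1.degree) / 2 + (l + 1 - p.2.degree) / 2) ?_ ?_
  · have h : p.1.degree + p.2.degree = e.degree := by
      rw [← map_add, Finset.HasAntidiagonal.mem_antidiagonal.1 hp]
    omega
  · rw [pow_add]; exact Ideal.mul_mem_mul (hf _) (hg _)

theorem O_le_W {k : ℕ} {f : MvPowerSeries (Fin n) A} (hf : O k f) : f ∈ W I k := by
  intro e
  by_cases he : e.degree < k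
  · rw [O_iff.1 hf e he]; exact zero_mem _
  · rw [show (k + 1 - e.degree) / 2 = 0 by omega, pow_zero, Ideal.one_eq_top]; trivial

theorem X_mem_W (i : Fin n) : (X i : MvPowerSeries (Fin n) A) ∈ W I 1 := O_le_W (O_X i)

theorem algebraMap_mem_W {j : ℕ} {c : A} (hc : c ∈ I ^ j) :
    algebraMap A (MvPowerSeries (Fin n) A) c ∈ W I (2 * j) := by
  classical
  intro e
  rw [MvPowerSeries.algebraMap_apply, Algebra.algebraMap_self, RingHom.id_apply, coeff_C]
  split
  · next h =>
    subst h
    rw [show (2 * j + 1 - (0 : Fin n →₀ ℕ).degree) / 2 = j by simp; omega]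
    exact hc
  · exact zero_mem _

variable [IsAdicComplete I A]

theorem eq_zero_of_forall_W {f : MvPowerSeries (Fin n) A} (hf : ∀ k, f ∈ W I k) : f = 0 := by
  ext e
  rw [map_zero]
  refine IsHausdorff.haus (I := I) inferInstance _ fun j => ?_
  rw [SModEq.zero, Ideal.smul_eq_mul, Ideal.mul_top]
  have := hf (2 * j + e.degree) e
  rwa [show (2 * j + e.degree + 1 - e.degree) / 2 = j by omega] at this

theorem eq_of_forall_W {f g : MvPowerSeries (Fin n) A} (hf : ∀ k, f - g ∈ W I k) : f = g :=
  sub_eq_zero.1 (eq_zero_of_forall_W hf)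

/-- Sequences with increments in `W I t` converge. -/
theorem exists_limit (s : ℕ → MvPowerSeries (Fin n) A) (hs : ∀ t, s (t + 1) - s t ∈ W I t) :
    ∃ L : MvPowerSeries (Fin n) A, ∀ t, L - s t ∈ W I t := by
  have cauchy : ∀ t r, s (t + r) - s t ∈ W I t := by
    intro t r
    induction r with
    | zero => simp
    | succ r ih =>
      have e : s (t + (r + 1)) - s t = (s (t + r + 1) - s (t + r)) + (s (t + r) - s t) := by
        rw [← Nat.add_assoc]; ring
      rw [e]
      exact Ideal.add_mem _ (W_mono (Nat.le_add_right t r) (hs (t + r))) ih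
  have hc : ∀ e : Fin n →₀ ℕ, ∃ c : A, ∀ j, coeff e (s (2 * j + e.degree)) - c ∈ I ^ j := by
    intro e
    obtain ⟨c, hc⟩ := IsPrecomplete.prec (I := I) (inferInstance : IsPrecomplete I A)
      (f := fun j => coeff e (s (2 * j + e.degree))) (fun {p q} hpq => by
        rw [SModEq.sub_mem, Ideal.smul_eq_mul, Ideal.mul_top, ← map_sub, ← neg_sub, map_neg, Ideal.neg_mem_iff]
        obtain ⟨r, hr⟩ := Nat.exists_eq_add_of_le (by omega : 2 * p + e.degree ≤ 2 * q + e.degree)
        have := cauchy (2 * p + e.degree) r e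
        rw [← hr, show (2 * p + e.degree + 1 - e.degree) / 2 = p by omega] at this
        exact this)
    exact ⟨c, fun j => by simpa [SModEq.sub_mem, Ideal.smul_eq_mul, Ideal.mul_top] using hc j⟩
  choose c hc using hc
  let L : MvPowerSeries (Fin n) A := c
  refine ⟨L, fun t e => ?_⟩
  rw [map_sub, show coeff e L = c e from rfl,
    ← neg_sub, Ideal.neg_mem_iff]
  obtain ⟨r, hr⟩ := Nat.exists_eq_add_of_le (by omega : t ≤ 2 * t + e.degree)
  have h1 := cauchy t r e
  rw [← hr, map_sub] at h1
  have h2 : coeff e (s (2 * t + e.degree)) - c e ∈ I ^ ((t + 1 - e.degree) / 2) :=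
    Ideal.pow_le_pow_right (by omega) (hc e t)
  have e' : coeff e (s t) - c e = (coeff e (s (2 * t + e.degree)) - c e)
      - (coeff e (s (2 * t + e.degree)) - coeff e (s t)) := by ring
  rw [e']
  exact Ideal.sub_mem _ h2 h1

/-- A contraction on tuples in `W I m` has a fixed point. -/
theorem exists_fixedW (m : ℕ)
    (T : (Fin n → MvPowerSeries (Fin n) A) → Fin n → MvPowerSeries (Fin n) A)
    (hT : ∀ h, (∀ i, h i ∈ W I m) → ∀ i, T h i ∈ W I m)
    (hc : ∀ (k : ℕ) h h', (∀ i, h i ∈ W I m) → (∀ i, h' i ∈ W I m) →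
      (∀ i, h i - h' i ∈ W I k) → ∀ i, T h i - T h' i ∈ W I (k + 1)) :
    ∃ h, (∀ i, h i ∈ W I m) ∧ T h = h := by
  let s : ℕ → Fin n → MvPowerSeries (Fin n) A := fun t => T^[t] 0
  have s_succ : ∀ t, s (t + 1) = T (s t) := fun t => Function.iterate_succ_apply' T t 0
  have sm : ∀ t i, s t i ∈ W I m := by
    intro t
    induction t with
    | zero => intro i; exact zero_mem _
    | succ t ih => rw [s_succ]; exact hT _ ih
  have step : ∀ t i, s (t + 1) i - s t i ∈ W I t := by
    intro t
    induction t with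
    | zero => intro i; exact mem_W_zero _
    | succ t ih =>
      intro i
      rw [s_succ (t + 1)]
      nth_rw 2 [s_succ t]
      exact hc t _ _ (sm _) (sm _) ih i
  choose L hL using fun i => exists_limit (I := I) (fun t => s t i) (fun t => step t i)
  have Lm : ∀ i, L i ∈ W I m := fun i => by
    have := Ideal.add_mem _ (hL i m) (sm m i)
    rwa [sub_add_cancel] at this
  refine ⟨L, Lm, funext fun i => eq_of_forall_W (I := I) fun t => ?_⟩
  have h1 := hc t L (s t) Lm (sm t) (fun i => hL i t) i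
  rw [← s_succ] at h1
  have e : T L i - L i = (T L i - s (t + 1) i) - (L i - s (t + 1) i) := by ring
  rw [e]
  exact W_mono (Nat.le_add_right t 1) (Ideal.sub_mem _ h1 (hL i (t + 1)))

/-! ## Evaluation -/

variable (a : Fin n → MvPowerSeries (Fin n) A)

omit [IsAdicComplete I A] in
theorem W_multiset_prod (ha : ∀ i, a i ∈ W I 1) (s : Multiset (Fin n)) :
    (s.map a).prod ∈ W I (Multiset.card s) := by
  induction s using Multiset.induction_on with
  | empty => exact mem_W_zero _
  | cons i s ih =>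
    rw [Multiset.map_cons, Multiset.prod_cons, Multiset.card_cons, Nat.add_comm]
    exact W_mul (ha i) ih

omit [IsAdicComplete I A] in
theorem W_multiset_prod_sub {k : ℕ} (b : Fin n → MvPowerSeries (Fin n) A) (ha : ∀ i, a i ∈ W I 1)
    (hb : ∀ i, b i ∈ W I 1) (hab : ∀ i, a i - b i ∈ W I k) (s : Multiset (Fin n)) :
    (s.map a).prod - (s.map b).prod ∈ W I (k + Multiset.card s - 1) := by
  induction s using Multiset.induction_on with
  | empty => simp
  | cons i s ih =>
    rw [Multiset.map_cons, Multiset.prod_cons, Multiset.map_cons, Multiset.prod_cons,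
      Multiset.card_cons]
    have e : a i * (s.map a).prod - b i * (s.map b).prod
        = (a i - b i) * (s.map a).prod + b i * ((s.map a).prod - (s.map b).prod) := by ring
    rw [e]
    refine Ideal.add_mem _ (W_mono (by omega) (W_mul (hab i) (W_multiset_prod a ha s))) ?_
    rcases Multiset.empty_or_exists_mem s with rfl | ⟨j, hj⟩
    · simp
    · exact W_mono (by omega) (W_mul (hb i) ih)

omit [IsAdicComplete I A] in
theorem aeval_mem_W {d : ℕ} (ha : ∀ i, a i ∈ W I 1) (p : MvPolynomial (Fin n) A)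
    (hp : (p : MvPowerSeries (Fin n) A) ∈ W I d) : MvPolynomial.aeval a p ∈ W I d := by
  rw [p.as_sum, map_sum]
  refine Ideal.sum_mem _ fun e _ => ?_
  rw [MvPolynomial.aeval_monomial, finsupp_prod_eq_multiset]
  have h1 : MvPolynomial.coeff e p ∈ I ^ ((d + 1 - e.degree) / 2) := by
    have := hp e
    rwa [MvPolynomial.coeff_coe] at this
  refine W_mono ?_ (W_mul (algebraMap_mem_W h1) (W_multiset_prod a ha _))
  have : Multiset.card (Finsupp.toMultiset e) = e.degree := by
    rw [Finsupp.card_toMultiset]; rfl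
  omega

omit [IsAdicComplete I A] in
theorem aeval_sub_mem_W {d k : ℕ} (b : Fin n → MvPowerSeries (Fin n) A) (ha : ∀ i, a i ∈ W I 1)
    (hb : ∀ i, b i ∈ W I 1) (hab : ∀ i, a i - b i ∈ W I k) (p : MvPolynomial (Fin n) A)
    (hp : (p : MvPowerSeries (Fin n) A) ∈ W I d) :
    MvPolynomial.aeval a p - MvPolynomial.aeval b p ∈ W I (k + d - 1) := by
  rw [p.as_sum, map_sum, map_sum, ← Finset.sum_sub_distrib]
  refine Ideal.sum_mem _ fun e _ => ?_
  rw [MvPolynomial.aeval_monomial, MvPolynomial.aeval_monomial, ← mul_sub,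
    finsupp_prod_eq_multiset, finsupp_prod_eq_multiset]
  have hcard : Multiset.card (Finsupp.toMultiset e) = e.degree := by
    rw [Finsupp.card_toMultiset]; rfl
  by_cases h0 : e = 0
  · subst h0; simp
  have h1 : MvPolynomial.coeff e p ∈ I ^ ((d + 1 - e.degree) / 2) := by
    have := hp e
    rwa [MvPolynomial.coeff_coe] at this
  have : e.degree ≠ 0 := fun h => h0 ((Finsupp.degree_eq_zero_iff e).1 h)
  refine W_mono ?_ (W_mul (algebraMap_mem_W h1) (W_multiset_prod_sub a b ha hb hab _))
  omega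

omit [IsAdicComplete I A] in
theorem coe_mem_W_of_le {N : ℕ} (p : MvPolynomial (Fin n) A)
    (hp : ∀ e : Fin n →₀ ℕ, e.degree < N → MvPolynomial.coeff e p = 0) :
    (p : MvPowerSeries (Fin n) A) ∈ W I N :=
  O_le_W (O_iff.2 fun e he => by rw [MvPolynomial.coeff_coe]; exact hp e he)

omit [IsAdicComplete I A] in
theorem sub_trunc_O (f : MvPowerSeries (Fin n) A) (N : ℕ) :
    O N (f - ((truncTotal N f : MvPolynomial (Fin n) A) : MvPowerSeries (Fin n) A)) :=
  O_iff.2 fun e he => by
    rw [map_sub, MvPolynomial.coeff_coe, coeff_truncTotal _ he, sub_self]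

omit [IsAdicComplete I A] in
theorem trunc_mem_W {d : ℕ} (N : ℕ) {f : MvPowerSeries (Fin n) A} (hf : f ∈ W I d) :
    ((truncTotal N f : MvPolynomial (Fin n) A) : MvPowerSeries (Fin n) A) ∈ W I d := by
  intro e
  rw [MvPolynomial.coeff_coe, coeff_truncTotal_eq_ite]
  split
  · exact hf e
  · exact zero_mem _

theorem exists_ev (ha : ∀ i, a i ∈ W I 1) (f : MvPowerSeries (Fin n) A) :
    ∃ L : MvPowerSeries (Fin n) A, ∀ t, L - MvPolynomial.aeval a (truncTotal t f) ∈ W I t :=
  exists_limit _ fun t => by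
    rw [← map_sub]
    refine aeval_mem_W a ha _ (coe_mem_W_of_le _ fun e he => ?_)
    rw [MvPolynomial.coeff_sub, coeff_truncTotal _ (by omega), coeff_truncTotal _ he, sub_self]

/-- Evaluation of a power series at a tuple in `W I 1`. -/
def evFun (ha : ∀ i, a i ∈ W I 1) (f : MvPowerSeries (Fin n) A) : MvPowerSeries (Fin n) A :=
  (exists_ev a ha f).choose

theorem evFun_spec (ha : ∀ i, a i ∈ W I 1) (f : MvPowerSeries (Fin n) A) (t : ℕ) :
    evFun a ha f - MvPolynomial.aeval a (truncTotal t f) ∈ W I t :=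
  (exists_ev a ha f).choose_spec t

theorem evFun_coe (ha : ∀ i, a i ∈ W I 1) (p : MvPolynomial (Fin n) A) :
    evFun a ha (p : MvPowerSeries (Fin n) A) = MvPolynomial.aeval a p := by
  refine eq_of_forall_W (I := I) fun t => ?_
  have e : evFun a ha (p : MvPowerSeries (Fin n) A) - MvPolynomial.aeval a p
      = (evFun a ha (p : MvPowerSeries (Fin n) A) - MvPolynomial.aeval a (truncTotal t (p : MvPowerSeries (Fin n) A)))
        + MvPolynomial.aeval a (truncTotal t (p : MvPowerSeries (Fin n) A) - p) := by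
    rw [map_sub]; ring
  rw [e]
  refine Ideal.add_mem _ (evFun_spec a ha _ t) (aeval_mem_W a ha _ (coe_mem_W_of_le _ fun e he => ?_))
  rw [MvPolynomial.coeff_sub, coeff_truncTotal _ he, MvPolynomial.coeff_coe, sub_self]

theorem evFun_add (ha : ∀ i, a i ∈ W I 1) (f g : MvPowerSeries (Fin n) A) :
    evFun a ha (f + g) = evFun a ha f + evFun a ha g := by
  refine eq_of_forall_W (I := I) fun t => ?_
  have e : evFun a ha (f + g) - (evFun a ha f + evFun a ha g)
      = (evFun a ha (f + g) - MvPolynomial.aeval a (truncTotal t (f + g)))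
        - (evFun a ha f - MvPolynomial.aeval a (truncTotal t f))
        - (evFun a ha g - MvPolynomial.aeval a (truncTotal t g)) := by
    rw [map_add, map_add]; ring
  rw [e]
  exact Ideal.sub_mem _ (Ideal.sub_mem _ (evFun_spec a ha _ t) (evFun_spec a ha _ t))
    (evFun_spec a ha _ t)

theorem evFun_mul (ha : ∀ i, a i ∈ W I 1) (f g : MvPowerSeries (Fin n) A) :
    evFun a ha (f * g) = evFun a ha f * evFun a ha g := by
  refine eq_of_forall_W (I := I) fun t => ?_
  have e : evFun a ha (f * g) - evFun a ha f * evFun a ha g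
      = (evFun a ha (f * g) - MvPolynomial.aeval a (truncTotal t (f * g)))
        + MvPolynomial.aeval a (truncTotal t (f * g) - truncTotal t f * truncTotal t g)
        - (evFun a ha f - MvPolynomial.aeval a (truncTotal t f)) * evFun a ha g
        - MvPolynomial.aeval a (truncTotal t f)
            * (evFun a ha g - MvPolynomial.aeval a (truncTotal t g)) := by
    rw [map_sub (MvPolynomial.aeval (R := A) a), map_mul (MvPolynomial.aeval (R := A) a)]; ring
  rw [e]
  refine Ideal.sub_mem _ (Ideal.sub_mem _ (Ideal.add_mem _ (evFun_spec a ha _ t) ?_) ?_) ?_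
  · refine aeval_mem_W a ha _ (coe_mem_W_of_le _ fun e he => ?_)
    rw [MvPolynomial.coeff_sub, coeff_truncTotal _ he,
      coeff_truncTotal_mul_truncTotal_eq_coeff_mul _ _ he, sub_self]
  · exact Ideal.mul_mem_right _ _ (evFun_spec a ha _ t)
  · exact Ideal.mul_mem_left _ _ (evFun_spec a ha _ t)

/-- Evaluation at a tuple in `W I 1`, as an algebra map. -/
def ev (ha : ∀ i, a i ∈ W I 1) : MvPowerSeries (Fin n) A →ₐ[A] MvPowerSeries (Fin n) A where
  toFun := evFun a ha
  map_one' := by
    rw [← MvPolynomial.coe_one, evFun_coe, map_one]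
    exact MvPolynomial.coe_one.symm
  map_mul' := evFun_mul a ha
  map_zero' := by
    rw [← MvPolynomial.coe_zero, evFun_coe, map_zero]
    exact MvPolynomial.coe_zero.symm
  map_add' := evFun_add a ha
  commutes' := fun c => by
    have : algebraMap A (MvPowerSeries (Fin n) A) c = ((MvPolynomial.C c : MvPolynomial (Fin n) A) : MvPowerSeries (Fin n) A) := by
      rw [MvPolynomial.coe_C, MvPowerSeries.algebraMap_apply, Algebra.algebraMap_self, RingHom.id_apply]
    nth_rw 1 [this]
    show evFun a ha _ = _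
    rw [evFun_coe, MvPolynomial.aeval_C]

theorem ev_coe (ha : ∀ i, a i ∈ W I 1) (p : MvPolynomial (Fin n) A) :
    ev a ha (p : MvPowerSeries (Fin n) A) = MvPolynomial.aeval a p := evFun_coe a ha p

theorem ev_X (ha : ∀ i, a i ∈ W I 1) (i : Fin n) : ev a ha (X i) = a i := by
  rw [← MvPolynomial.coe_X, ev_coe, MvPolynomial.aeval_X]

theorem ev_mem_W {d : ℕ} (ha : ∀ i, a i ∈ W I 1) {f : MvPowerSeries (Fin n) A} (hf : f ∈ W I d) :
    ev a ha f ∈ W I d := by
  have h := Ideal.add_mem _ (evFun_spec a ha f d)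
    (aeval_mem_W a ha (truncTotal d f) (trunc_mem_W d hf))
  rwa [sub_add_cancel] at h

theorem ev_sub_mem_W {d k : ℕ} (b : Fin n → MvPowerSeries (Fin n) A) (ha : ∀ i, a i ∈ W I 1)
    (hb : ∀ i, b i ∈ W I 1) (hab : ∀ i, a i - b i ∈ W I k) {f : MvPowerSeries (Fin n) A}
    (hf : f ∈ W I d) : ev a ha f - ev b hb f ∈ W I (k + d - 1) := by
  set t := k + d - 1
  have e : ev a ha f - ev b hb f
      = (evFun a ha f - MvPolynomial.aeval a (truncTotal t f))
        - (evFun b hb f - MvPolynomial.aeval b (truncTotal t f))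
        + (MvPolynomial.aeval a (truncTotal t f) - MvPolynomial.aeval b (truncTotal t f)) := by
    show evFun a ha f - evFun b hb f = _
    ring
  rw [e]
  exact Ideal.add_mem _ (Ideal.sub_mem _ (evFun_spec a ha f t) (evFun_spec b hb f t))
    (aeval_sub_mem_W a b ha hb hab _ (trunc_mem_W t hf))

theorem ev_self (hX : ∀ i, (X i : MvPowerSeries (Fin n) A) ∈ W I 1) (f : MvPowerSeries (Fin n) A) :
    ev X hX f = f := by
  refine eq_of_forall_W (I := I) fun t => ?_
  have hp : MvPolynomial.aeval (X : Fin n → MvPowerSeries (Fin n) A) (truncTotal t f)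
      = ((truncTotal t f : MvPolynomial (Fin n) A) : MvPowerSeries (Fin n) A) := by
    rw [← subst_coe, subst_self]; rfl
  have e : ev X hX f - f = (evFun X hX f - MvPolynomial.aeval X (truncTotal t f))
      - (f - ((truncTotal t f : MvPolynomial (Fin n) A) : MvPowerSeries (Fin n) A)) := by
    rw [hp]
    show evFun X hX f - f = _
    ring
  rw [e]
  exact Ideal.sub_mem _ (evFun_spec X hX f t) (O_le_W (sub_trunc_O f t))

theorem ev_comp (b : Fin n → MvPowerSeries (Fin n) A) (ha : ∀ i, a i ∈ W I 1)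
    (hb : ∀ i, b i ∈ W I 1) (f : MvPowerSeries (Fin n) A) :
    ev b hb (ev a ha f) = ev (fun i => ev b hb (a i)) (fun i => ev_mem_W b hb (ha i)) f := by
  refine eq_of_forall_W (I := I) fun t => ?_
  have key : ev b hb (MvPolynomial.aeval a (truncTotal t f))
      = MvPolynomial.aeval (fun i => ev b hb (a i)) (truncTotal t f) := by
    rw [← AlgHom.comp_apply, MvPolynomial.comp_aeval]
  have e : ev b hb (ev a ha f) - ev (fun i => ev b hb (a i)) (fun i => ev_mem_W b hb (ha i)) f
      = ev b hb (evFun a ha f - MvPolynomial.aeval a (truncTotal t f))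
        - (evFun (fun i => ev b hb (a i)) (fun i => ev_mem_W b hb (ha i)) f
            - MvPolynomial.aeval (fun i => ev b hb (a i)) (truncTotal t f)) := by
    rw [map_sub, key]
    show ev b hb (evFun a ha f) - evFun _ (fun i => ev_mem_W b hb (ha i)) f = _
    ring
  rw [e]
  exact Ideal.sub_mem _ (ev_mem_W b hb (evFun_spec a ha f t)) (evFun_spec _ _ f t)

omit [IsAdicComplete I A] in
theorem X_add_mem_W {h : Fin n → MvPowerSeries (Fin n) A} {m : ℕ} (hm : 1 ≤ m)
    (hh : ∀ i, h i ∈ W I m) (i : Fin n) : X i + h i ∈ W I 1 :=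
  Ideal.add_mem _ (X_mem_W i) (W_mono hm (hh i))

theorem exists_leftInverseW (h : Fin n → MvPowerSeries (Fin n) A) (hh : ∀ i, h i ∈ W I 2) :
    ∃ (k : Fin n → MvPowerSeries (Fin n) A) (hk : ∀ i, k i ∈ W I 2),
      ∀ f, ev (fun i => X i + k i) (X_add_mem_W one_le_two hk)
        (ev (fun i => X i + h i) (X_add_mem_W one_le_two hh) f) = f := by
  classical
  let T : (Fin n → MvPowerSeries (Fin n) A) → Fin n → MvPowerSeries (Fin n) A := fun k i =>
    if hk : ∀ j, k j ∈ W I 2 then - ev (fun j => X j + k j) (X_add_mem_W one_le_two hk) (h i) else 0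
  obtain ⟨k, hk, hfix⟩ := exists_fixedW (I := I) 2 T
    (fun k hk i => by
      simp only [T, dif_pos hk]
      exact neg_mem (ev_mem_W _ _ (hh i)))
    (fun t k k' hk hk' hd i => by
      simp only [T, dif_pos hk, dif_pos hk', neg_sub_neg]
      rw [← neg_sub]
      refine neg_mem (W_mono (by omega) (ev_sub_mem_W (k := t) (d := 2) _ _ _ _ (fun j => ?_) (hh i)))
      simpa using hd j)
  refine ⟨k, hk, fun f => ?_⟩
  rw [ev_comp]
  have e : (fun i => ev (fun j => X j + k j) (X_add_mem_W one_le_two hk) (X i + h i))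
      = (X : Fin n → MvPowerSeries (Fin n) A) := by
    funext i
    have hi : T k i = k i := congrFun hfix i
    simp only [T, dif_pos hk] at hi
    rw [map_add, ev_X]
    linear_combination (-1 : MvPowerSeries (Fin n) A) * hi
  simp only [e]
  exact ev_self _ f

theorem ev_bijective (h : Fin n → MvPowerSeries (Fin n) A) (hh : ∀ i, h i ∈ W I 2) :
    Function.Bijective (ev (fun i => X i + h i) (X_add_mem_W one_le_two hh)) := by
  obtain ⟨k, hk, hkh⟩ := exists_leftInverseW h hh
  obtain ⟨l, hl, hlk⟩ := exists_leftInverseW k hk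
  refine ⟨fun f g hfg => ?_, fun f => ⟨ev (fun i => X i + k i) (X_add_mem_W one_le_two hk) f, ?_⟩⟩
  · rw [← hkh f, ← hkh g, hfg]
  · have hl_eq : ∀ g, ev (fun i => X i + l i) (X_add_mem_W one_le_two hl) g
        = ev (fun i => X i + h i) (X_add_mem_W one_le_two hh) g := by
      intro g
      have := hlk (ev (fun i => X i + h i) (X_add_mem_W one_le_two hh) g)
      rw [hkh] at this
      exact this
    rw [← hl_eq]
    exact hlk f

/-! ## The Morse lemma -/

omit [IsAdicComplete I A] in
theorem D_mem_W {k : ℕ} (i : Fin n) {f : MvPowerSeries (Fin n) A} (hf : f ∈ W I (k + 1)) :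
    D i f ∈ W I k := by
  intro e
  rw [coeff_D]
  split
  · have := hf (e + Finsupp.single i 1)
    rw [map_add, Finsupp.degree_single] at this
    exact Ideal.pow_le_pow_right (by omega) this
  · exact zero_mem _

omit [IsAdicComplete I A] in
theorem W_quadEval_sub {k m : ℕ} (q : Fin n → Fin n → MvPowerSeries (Fin n) A)
    {a b : Fin n → MvPowerSeries (Fin n) A} (ha : ∀ i, a i ∈ W I m) (hb : ∀ i, b i ∈ W I m)
    (hab : ∀ i, a i - b i ∈ W I k) : VanCyc.quadEval q a - VanCyc.quadEval q b ∈ W I (k + m) := by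
  simp only [VanCyc.quadEval, ← Finset.sum_sub_distrib]
  refine Ideal.sum_mem _ fun i _ => Ideal.sum_mem _ fun j _ => ?_
  split
  · have e : q i j * a i * a j - q i j * b i * b j
        = q i j * ((a i - b i) * a j + b i * (a j - b j)) := by ring
    rw [e]
    exact Ideal.mul_mem_left _ _ (Ideal.add_mem _ (W_mul (hab i) (ha j))
      (W_mono (by omega) (W_mul (hb i) (hab j))))
  · simp

omit [IsAdicComplete I A] in
theorem polarMatrix_map {S T : Type u} [CommRing S] [CommRing T] (f : S →+* T) (q : Fin n → Fin n → S) :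
    VanCyc.polarMatrix (fun i j => f (q i j)) = (VanCyc.polarMatrix q).map f := by
  refine Matrix.ext fun i j => ?_
  simp only [VanCyc.polarMatrix, Matrix.map_apply]
  split_ifs <;> simp [map_ofNat]

omit [IsAdicComplete I A] in
theorem mulVec_inv_map {S T : Type u} [CommRing S] [CommRing T] (f : S →+* T)
    (B : Matrix (Fin n) (Fin n) S) (hB : IsUnit B.det) (v : Fin n → T) :
    (B.map f).mulVec ((B⁻¹.map f).mulVec v) = v := by
  rw [Matrix.mulVec_mulVec, ← Matrix.map_mul, Matrix.mul_nonsing_inv _ hB,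
    Matrix.map_one _ (map_zero _) (map_one _), Matrix.one_mulVec]

/-- Solving `B h = -D (R h)` for a map `R` raising the weight. -/
theorem exists_solution (B : Matrix (Fin n) (Fin n) A) (hB : IsUnit B.det)
    (R : (Fin n → MvPowerSeries (Fin n) A) → MvPowerSeries (Fin n) A)
    (hR : ∀ h, (∀ i, h i ∈ W I 2) → R h ∈ W I 3)
    (hc : ∀ k h h', (∀ i, h i ∈ W I 2) → (∀ i, h' i ∈ W I 2) → (∀ i, h i - h' i ∈ W I k) →
      R h - R h' ∈ W I (k + 2)) :
    ∃ h, (∀ i, h i ∈ W I 2) ∧
      (B.map (algebraMap A (MvPowerSeries (Fin n) A))).mulVec h = fun i => -(D i (R h)) := by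
  let T : (Fin n → MvPowerSeries (Fin n) A) → Fin n → MvPowerSeries (Fin n) A :=
    fun h => (B⁻¹.map (algebraMap A (MvPowerSeries (Fin n) A))).mulVec (fun j => -(D j (R h)))
  obtain ⟨h, hh, hfix⟩ := exists_fixedW (I := I) 2 T
    (fun h hh i => by
      simp only [T, Matrix.mulVec, dotProduct]
      exact Ideal.sum_mem _ fun j _ => Ideal.mul_mem_left _ _ (neg_mem (D_mem_W j (hR h hh))))
    (fun k h h' hh hh' hd i => by
      simp only [T, Matrix.mulVec, dotProduct]
      rw [← Finset.sum_sub_distrib]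
      refine Ideal.sum_mem _ fun j _ => ?_
      rw [← mul_sub, neg_sub_neg, ← D_sub, ← neg_sub]
      refine Ideal.mul_mem_left _ _ (D_mem_W j (neg_mem ?_))
      exact hc k h h' hh hh' hd)
  refine ⟨h, hh, ?_⟩
  conv_lhs => arg 2; rw [← hfix]
  exact mulVec_inv_map _ B hB _

open Classical in
/-- The map `h ↦ G(x + h)`, totalised. -/
def evT (I : Ideal A) [IsAdicComplete I A] (h : Fin n → MvPowerSeries (Fin n) A)
    (f : MvPowerSeries (Fin n) A) : MvPowerSeries (Fin n) A :=
  if hh : ∀ j, h j ∈ W I 2 then ev (fun j => X j + h j) (X_add_mem_W one_le_two hh) f else 0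

theorem evT_eq {h : Fin n → MvPowerSeries (Fin n) A} (hh : ∀ j, h j ∈ W I 2)
    (f : MvPowerSeries (Fin n) A) :
    evT I h f = ev (fun j => X j + h j) (X_add_mem_W one_le_two hh) f := dif_pos hh

/-- The remainder `Q(h) + ℓ(x + h) + G(x + h)`. -/
def rem (I : Ideal A) [IsAdicComplete I A] (q : Fin n → Fin n → MvPowerSeries (Fin n) A)
    (l : Fin n → MvPowerSeries (Fin n) A)
    (G : MvPowerSeries (Fin n) A) (h : Fin n → MvPowerSeries (Fin n) A) : MvPowerSeries (Fin n) A :=
  VanCyc.quadEval q h + ∑ i, l i * (X i + h i) + evT I h G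

theorem rem_mem (q : Fin n → Fin n → MvPowerSeries (Fin n) A) {l : Fin n → MvPowerSeries (Fin n) A}
    (hl : ∀ i, l i ∈ W I 2) {G : MvPowerSeries (Fin n) A} (hG : G ∈ W I 3)
    {h : Fin n → MvPowerSeries (Fin n) A} (hh : ∀ i, h i ∈ W I 2) : rem I q l G h ∈ W I 3 := by
  unfold rem VanCyc.quadEval
  refine Ideal.add_mem _ (Ideal.add_mem _ ?_ ?_) ?_
  · refine Ideal.sum_mem _ fun i _ => Ideal.sum_mem _ fun j _ => ?_
    split
    · have h4 : h i * h j ∈ W I 3 := W_mono (show 3 ≤ 2 + 2 by omega) (W_mul (hh i) (hh j))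
      rw [mul_assoc]
      exact Ideal.mul_mem_left _ _ h4
    · exact zero_mem _
  · exact Ideal.sum_mem _ fun i _ => W_mono (show 3 ≤ 2 + 1 by omega) (W_mul (hl i) (X_add_mem_W (m := 2) one_le_two hh i))
  · rw [evT_eq hh]; exact ev_mem_W _ _ hG

theorem rem_sub_mem (q : Fin n → Fin n → MvPowerSeries (Fin n) A)
    {l : Fin n → MvPowerSeries (Fin n) A} (hl : ∀ i, l i ∈ W I 2) {G : MvPowerSeries (Fin n) A}
    (hG : G ∈ W I 3) {k : ℕ} {h h' : Fin n → MvPowerSeries (Fin n) A} (hh : ∀ i, h i ∈ W I 2)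
    (hh' : ∀ i, h' i ∈ W I 2) (hd : ∀ i, h i - h' i ∈ W I k) :
    rem I q l G h - rem I q l G h' ∈ W I (k + 2) := by
  have e : rem I q l G h - rem I q l G h' = (VanCyc.quadEval q h - VanCyc.quadEval q h')
      + ∑ i, l i * (h i - h' i) + (evT I h G - evT I h' G) := by
    simp only [rem, mul_sub, mul_add, Finset.sum_sub_distrib, Finset.sum_add_distrib]
    ring
  rw [e]
  refine Ideal.add_mem _ (Ideal.add_mem _ (W_quadEval_sub q hh hh' hd) ?_) ?_
  · exact Ideal.sum_mem _ fun i _ => W_mono (by omega) (W_mul (hl i) (hd i))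
  · rw [evT_eq hh, evT_eq hh']
    exact W_mono (by omega) (ev_sub_mem_W (k := k) (d := 3) _ _ _ _
      (fun i => by simpa using hd i) hG)

/-- The formal Morse lemma over an `I`-adically complete ring. -/
theorem exists_morseW (q : Fin n → Fin n → A) (hq : VanCyc.QuadNondeg q) (a : A) (ha : a ∈ I)
    (ℓ : Fin n → A) (hℓ : ∀ i, ℓ i ∈ I) (G : MvPowerSeries (Fin n) A) (hG : O 3 G) :
    ∃ (h : Fin n → MvPowerSeries (Fin n) A) (hh : ∀ i, h i ∈ W I 2), ∃ a' ∈ I,
      ev (fun i => X i + h i) (X_add_mem_W one_le_two hh)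
        (((VanCyc.quadPoly q + ∑ i, MvPolynomial.C (ℓ i) * MvPolynomial.X i + MvPolynomial.C a :
          MvPolynomial (Fin n) A) : MvPowerSeries (Fin n) A) + G)
      = ((VanCyc.quadPoly q + MvPolynomial.C a' : MvPolynomial (Fin n) A) :
          MvPowerSeries (Fin n) A) := by
  set qc : Fin n → Fin n → MvPowerSeries (Fin n) A :=
    fun i j => algebraMap A (MvPowerSeries (Fin n) A) (q i j) with hqc
  set lc : Fin n → MvPowerSeries (Fin n) A :=
    fun i => algebraMap A (MvPowerSeries (Fin n) A) (ℓ i) with hlcdef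
  have hlc : ∀ i, lc i ∈ W I 2 := fun i => algebraMap_mem_W (j := 1) (by simpa using hℓ i)
  obtain ⟨h, hh, hBh'⟩ := exists_solution (VanCyc.polarMatrix q) hq (rem I qc lc G)
    (fun h hh => rem_mem qc hlc (O_le_W hG) hh)
    (fun k h h' hh hh' hd => rem_sub_mem qc hlc (O_le_W hG) hh hh' hd)
  rw [← polarMatrix_map, ← hqc] at hBh'
  set r := rem I qc lc G h with hr
  set c := constantCoeff r
  have hc : c ∈ I := by
    have := rem_mem qc hlc (O_le_W hG) hh 0
    rw [coeff_zero_eq_constantCoeff_apply] at this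
    exact (Ideal.pow_le_self (by simp)) this
  refine ⟨h, hh, a + c, Ideal.add_mem _ ha hc, ?_⟩
  have hD : ∀ i, D i (r - algebraMap A (MvPowerSeries (Fin n) A) c) = D i r := by
    intro i
    ext e
    simp only [coeff_D]
    split
    · rw [map_sub, MvPowerSeries.algebraMap_apply, Algebra.algebraMap_self, RingHom.id_apply,
        coeff_C, if_neg (fun h0 => by simpa using congrArg Finsupp.degree h0), sub_zero]
    · rfl
  have hlin : ∑ i, X i * (VanCyc.polarMatrix qc).mulVec h i
      = algebraMap A (MvPowerSeries (Fin n) A) c - r := by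
    simp only [hBh', mul_neg, Finset.sum_neg_distrib]
    simp only [← hD]
    rw [sum_X_mul_D _ (by simp [c, MvPowerSeries.algebraMap_apply]), neg_sub]
  have hPX : ∀ P : MvPolynomial (Fin n) A, (P : MvPowerSeries (Fin n) A)
      = MvPolynomial.aeval (X : Fin n → MvPowerSeries (Fin n) A) P := fun P => by
    rw [← subst_coe, subst_self]; rfl
  rw [map_add, ev_coe, ← evT_eq hh G]
  conv_rhs => rw [hPX]
  simp only [map_add, map_sum, map_mul, MvPolynomial.aeval_C, MvPolynomial.aeval_X, aeval_quadPoly]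
  rw [show (fun i => X i + h i) = (X : Fin n → MvPowerSeries (Fin n) A) + h from rfl, quadEval_add,
    ← hqc, hlin, hr]
  simp only [rem, hlcdef]
  ring

end Morse19
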